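import Groth.Agent.MiscFlat6.RelProjFlat
import Mathlib.RingTheory.Finiteness.ModuleFinitePresentation
import Mathlib.RingTheory.IntegralClosure.IsIntegral.Basic

/-! The charts of Proj of a finitely presented graded algebra are finitely presented. -/

set_option autoImplicit false
set_option maxHeartbeats 1000000
universe u

open CategoryTheory AlgebraicGeometry TopologicalSpace Opposite HomogeneousLocalization DirectSum

noncomputable section

namespace RelProjFPLib

variable {A σ : Type u} [CommRing A] [SetLike σ A] [AddSubgroupClass σ A] (𝒜 : ℕ → σ) [GradedRing 𝒜]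

/-- The dehomogenised ring. -/
abbrev DQ (f : A) : Type u := A ⧸ Ideal.span ({f - 1} : Set A)

/-- The quotient map. -/
abbrev qm (f : A) : A →+* DQ f := Ideal.Quotient.mk _

theorem qm_self (f : A) : qm f f = 1 :=
  (Ideal.Quotient.eq (x := f) (y := 1)).mpr (Ideal.subset_span rfl)

theorem qm_pow_mul (f : A) (k : ℕ) (a : A) : qm f (f ^ k * a) = qm f a := by
  rw [map_mul, map_pow, qm_self, one_pow, one_mul]

/-- The map from the chart ring. -/
def toQ (f : A) : Away 𝒜 f →+* DQ f :=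
  (IsLocalization.Away.lift (S := Localization.Away f) f (g := qm f) (by rw [qm_self]; exact isUnit_one)).comp
    (algebraMap (Away 𝒜 f) (Localization.Away f))

theorem toQ_mk {d : ℕ} {f : A} (hf : f ∈ 𝒜 d) (k : ℕ) (a : A) (ha : a ∈ 𝒜 (k • d)) :
    toQ 𝒜 f (Away.mk 𝒜 hf k a ha) = qm f a := by
  have hu : IsUnit (qm f f) := by rw [qm_self]; exact isUnit_one
  change IsLocalization.Away.lift (S := Localization.Away f) f hu (Away.mk 𝒜 hf k a ha).val = _
  rw [Away.val_mk, Localization.mk_eq_mk', IsLocalization.Away.lift, IsLocalization.lift_mk'_spec]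
  change qm f a = qm f (f ^ k) * qm f a
  rw [map_pow, qm_self, one_pow, one_mul]

theorem isIntegral_toQ {d : ℕ} (hd : 0 < d) {f : A} (hf : f ∈ 𝒜 d) :
    letI := (toQ 𝒜 f).toAlgebra
    Algebra.IsIntegral (Away 𝒜 f) (DQ f) := by
  let := (toQ 𝒜 f).toAlgebra
  refine ⟨fun q => ?_⟩
  obtain ⟨a, rfl⟩ := Ideal.Quotient.mk_surjective q
  induction a using DirectSum.Decomposition.inductionOn 𝒜 with
  | zero => rw [map_zero]; exact isIntegral_zero
  | add a b ha hb => rw [map_add]; exact ha.add hb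
  | @homogeneous i a =>
    refine IsIntegral.of_pow hd ?_
    have hmem : (a : A) ^ d ∈ 𝒜 (i • d) := by
      rw [show i • d = d • i by simp [mul_comm]]
      exact SetLike.pow_mem_graded d a.2
    rw [← map_pow, ← toQ_mk 𝒜 hf i _ hmem]
    exact isIntegral_algebraMap

section Twist

variable {d : ℕ} (hd : 0 < d) {f : A} (hf : f ∈ 𝒜 d) (n : ℤ)

/-- Admissible degrees. -/
def Good (d : ℕ) (n : ℤ) (i : ℕ) : Prop := ∃ k : ℕ, (i : ℤ) + n.natAbs * d = k * d + n

include hd in
theorem good_add_iff (i k0 : ℕ) : Good d n (k0 • d + i) ↔ Good d n i := by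
  have h1 : (n.natAbs : ℤ) ≤ n.natAbs * d := le_mul_of_one_le_right (by positivity) (by exact_mod_cast hd)
  constructor
  · rintro ⟨k, hk⟩
    rw [smul_eq_mul] at hk
    simp only [Nat.cast_add, Nat.cast_mul] at hk
    have h2 : (k0 : ℤ) * d ≤ k * d := by omega
    have h3 : k0 ≤ k := by exact_mod_cast le_of_mul_le_mul_right h2 (by exact_mod_cast hd)
    exact ⟨k - k0, by rw [Nat.cast_sub h3, sub_mul]; linarith⟩
  · rintro ⟨k, hk⟩
    exact ⟨k + k0, by rw [smul_eq_mul]; simp only [Nat.cast_add, Nat.cast_mul, Nat.cast_one]; linarith⟩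

include hd in
theorem good_of_eq {i k : ℕ} (h : (i : ℤ) = k * d + n) : Good d n i :=
  ⟨k + n.natAbs, by simp only [Nat.cast_add, Nat.cast_mul, Nat.cast_one]; linarith⟩

open scoped Classical in
/-- The section given by a homogeneous element. -/
def psiHom (i : ℕ) : 𝒜 i →+ Γ(GrTwist.twist 𝒜 n, Proj.basicOpen 𝒜 f) :=
  if h : Good d n i then
    { toFun := fun a => GrModLib6.ofTilde (GrModLib6.fracSec
        (m := f ^ n.natAbs * (a : A)) (i := n.natAbs • d + i)
        (SetLike.mul_mem_graded (SetLike.pow_mem_graded _ hf) a.2) (SetLike.pow_mem_graded h.choose hf)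
        (by rw [smul_eq_mul, smul_eq_mul]; simp only [Nat.cast_add, Nat.cast_mul, Nat.cast_one]; linarith [h.choose_spec]) (fun x => GrModLib6.pow_nin x _))
      map_zero' := GrTwistLib.sec_ext fun x => by
        change Localization.mk _ _ = (0 : GrTwist.Loc 𝒜 x.1)
        rw [ZeroMemClass.coe_zero, mul_zero, Localization.mk_zero]
      map_add' := fun a b => GrTwistLib.sec_ext fun x => by
        change Localization.mk _ _ = Localization.mk _ _ + Localization.mk _ _
        rw [AddMemClass.coe_add, mul_add]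
        exact (Localization.add_mk_self _ _ _).symm }
  else 0

/-- Sections from elements. -/
def psiA : A →+ Γ(GrTwist.twist 𝒜 n, Proj.basicOpen 𝒜 f) :=
  (DirectSum.toAddMonoid (psiHom 𝒜 hf n)).comp (DirectSum.decomposeAddEquiv 𝒜).toAddMonoidHom

theorem psiA_of_mem {i : ℕ} {a : A} (ha : a ∈ 𝒜 i) : psiA 𝒜 hf n a = psiHom 𝒜 hf n i ⟨a, ha⟩ := by
  change DirectSum.toAddMonoid (psiHom 𝒜 hf n) (DirectSum.decompose 𝒜 a) = _
  rw [DirectSum.decompose_of_mem 𝒜 ha, DirectSum.toAddMonoid_of]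

include hd in
theorem psiA_bad {i : ℕ} {a : A} (ha : a ∈ 𝒜 i) (h : ¬ Good d n i) : psiA 𝒜 hf n a = 0 := by
  rw [psiA_of_mem 𝒜 hf n ha, psiHom, dif_neg h]
  rfl

include hd in
theorem psiA_frac {i k : ℕ} {a : A} (ha : a ∈ 𝒜 i) (h : (i : ℤ) = k * d + n) :
    psiA 𝒜 hf n a = GrModLib6.ofTilde (GrModLib6.fracSec ha (SetLike.pow_mem_graded k hf)
      (by rw [smul_eq_mul]; simp only [Nat.cast_add, Nat.cast_mul, Nat.cast_one]; exact h) (fun x => GrModLib6.pow_nin x _)) := by
  have hg := good_of_eq hd n h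
  rw [psiA_of_mem 𝒜 hf n ha, psiHom, dif_pos hg]
  have hk : hg.choose = k + n.natAbs := by
    have h1 := hg.choose_spec
    have : (hg.choose : ℤ) * d = ((k + n.natAbs : ℕ) : ℤ) * d := by simp only [Nat.cast_add, Nat.cast_mul, Nat.cast_one]; linarith
    exact_mod_cast mul_right_cancel₀ (by exact_mod_cast hd.ne') this
  refine GrTwistLib.sec_ext fun x => ?_
  change Localization.mk _ _ = Localization.mk _ _
  refine Localization.mk_eq_mk_iff.mpr (Localization.r_iff_exists.mpr ⟨1, ?_⟩)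
  simp only [OneMemClass.coe_one, one_mul, hk, pow_add, mul_assoc]

include hd in
theorem psiA_self_mul (a : A) : psiA 𝒜 hf n (f * a) = psiA 𝒜 hf n a := by
  induction a using DirectSum.Decomposition.inductionOn 𝒜 with
  | zero => rw [mul_zero]
  | add a b ha hb => rw [mul_add, map_add, map_add, ha, hb]
  | @homogeneous i a =>
    have hm : f * (a : A) ∈ 𝒜 (1 • d + i) := by
      rw [one_smul]; exact SetLike.mul_mem_graded hf a.2
    by_cases hg : Good d n i
    · have hg' := (good_add_iff hd n i 1).mpr hg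
      rw [psiA_of_mem 𝒜 hf n a.2, psiA_of_mem 𝒜 hf n hm, psiHom, psiHom, dif_pos hg, dif_pos hg']
      have hk : hg'.choose = hg.choose + 1 := by
        have h1 := hg.choose_spec
        have h2 := hg'.choose_spec
        generalize hg'.choose = K at h2 ⊢
        simp only [smul_eq_mul] at h2
        simp only [Nat.cast_add, Nat.cast_mul, Nat.cast_one, one_mul] at h2
        have : (K : ℤ) * d = ((hg.choose + 1 : ℕ) : ℤ) * d := by simp only [Nat.cast_add, Nat.cast_mul, Nat.cast_one]; linarith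
        exact_mod_cast mul_right_cancel₀ (by exact_mod_cast hd.ne') this
      refine GrTwistLib.sec_ext fun x => ?_
      change Localization.mk _ _ = Localization.mk _ _
      refine Localization.mk_eq_mk_iff.mpr (Localization.r_iff_exists.mpr ⟨1, ?_⟩)
      simp only [OneMemClass.coe_one, one_mul, hk, pow_add, pow_one]
      ring
    · rw [psiA_bad 𝒜 hd hf n a.2 hg, psiA_bad 𝒜 hd hf n hm fun h => hg ((good_add_iff hd n i 1).mp h)]

open scoped Classical in
/-- The projection to the admissible degrees. -/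
def eA : A →+ DQ f :=
  (DirectSum.toAddMonoid fun i => if Good d n i then (qm f).toAddMonoidHom.comp (AddSubmonoidClass.subtype (𝒜 i))
    else 0).comp (DirectSum.decomposeAddEquiv 𝒜).toAddMonoidHom

theorem eA_good {i : ℕ} {a : A} (ha : a ∈ 𝒜 i) (h : Good d n i) : eA 𝒜 (f := f) (d := d) n a = qm f a := by
  classical
  change DirectSum.toAddMonoid _ (DirectSum.decompose 𝒜 a) = _
  rw [DirectSum.decompose_of_mem 𝒜 ha, DirectSum.toAddMonoid_of, if_pos h]
  rfl

theorem eA_bad {i : ℕ} {a : A} (ha : a ∈ 𝒜 i) (h : ¬ Good d n i) : eA 𝒜 (f := f) (d := d) n a = 0 := by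
  classical
  change DirectSum.toAddMonoid _ (DirectSum.decompose 𝒜 a) = _
  rw [DirectSum.decompose_of_mem 𝒜 ha, DirectSum.toAddMonoid_of, if_neg h]
  rfl

include hd hf in
theorem eA_self_mul (a : A) : eA 𝒜 (f := f) (d := d) n (f * a) = eA 𝒜 (f := f) (d := d) n a := by
  induction a using DirectSum.Decomposition.inductionOn 𝒜 with
  | zero => rw [mul_zero]
  | add a b ha hb => rw [mul_add, map_add, map_add, ha, hb]
  | @homogeneous i a =>
    have hm : f * (a : A) ∈ 𝒜 (1 • d + i) := by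
      rw [one_smul]; exact SetLike.mul_mem_graded hf a.2
    by_cases hg : Good d n i
    · rw [eA_good 𝒜 n a.2 hg, eA_good 𝒜 n hm ((good_add_iff hd n i 1).mpr hg), map_mul, qm_self, one_mul]
    · rw [eA_bad 𝒜 n a.2 hg, eA_bad 𝒜 n hm fun h => hg ((good_add_iff hd n i 1).mp h)]

include hd hf in
theorem exists_frac_eA (a : A) : ∃ (k i : ℕ) (m : A), m ∈ 𝒜 i ∧ (i : ℤ) = k * d + n ∧
    eA 𝒜 (f := f) (d := d) n a = qm f m := by
  have h1 : (n.natAbs : ℤ) ≤ n.natAbs * d := le_mul_of_one_le_right (by positivity) (by exact_mod_cast hd)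
  have h0 : ∃ (k i : ℕ) (m : A), m ∈ 𝒜 i ∧ (i : ℤ) = k * d + n ∧ (0 : DQ f) = qm f m :=
    ⟨n.natAbs, ((n.natAbs : ℤ) * d + n).toNat, 0, zero_mem _, Int.toNat_of_nonneg (by omega), (map_zero _).symm⟩
  induction a using DirectSum.Decomposition.inductionOn 𝒜 with
  | zero => simpa using h0
  | @homogeneous i a =>
    by_cases hg : Good d n i
    · obtain ⟨k, hk⟩ := hg
      refine ⟨k, n.natAbs • d + i, f ^ n.natAbs * a, SetLike.mul_mem_graded (SetLike.pow_mem_graded _ hf) a.2, ?_, ?_⟩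
      · rw [smul_eq_mul]; simp only [Nat.cast_add, Nat.cast_mul, Nat.cast_one]; linarith
      · rw [eA_good 𝒜 n a.2 ⟨k, hk⟩, qm_pow_mul]
    · rw [eA_bad 𝒜 n a.2 hg]; exact h0
  | add a b ha hb =>
    obtain ⟨k, i, m, hm, hi, ha⟩ := ha
    obtain ⟨l, j, p, hp, hj, hb⟩ := hb
    refine ⟨k + l, l • d + i, f ^ l * m + f ^ k * p, add_mem (SetLike.mul_mem_graded (SetLike.pow_mem_graded _ hf) hm) ?_, ?_, ?_⟩
    · have : l • d + i = k • d + j := by
        have : ((l • d + i : ℕ) : ℤ) = ((k • d + j : ℕ) : ℤ) := by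
          rw [smul_eq_mul, smul_eq_mul]; simp only [Nat.cast_add, Nat.cast_mul, Nat.cast_one]; linarith
        exact_mod_cast this
      rw [this]
      exact SetLike.mul_mem_graded (SetLike.pow_mem_graded _ hf) hp
    · rw [smul_eq_mul]; simp only [Nat.cast_add, Nat.cast_mul, Nat.cast_one]; linarith
    · rw [map_add (eA 𝒜 n), ha, hb, map_add (qm f), qm_pow_mul, qm_pow_mul]

include hd hf in
theorem psiA_eA (a m : A) (h : eA 𝒜 (f := f) (d := d) n a = qm f m) : psiA 𝒜 hf n a = psiA 𝒜 hf n m := by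
  have hlift : ∀ x y : A, qm f x = qm f y → psiA 𝒜 hf n x = psiA 𝒜 hf n y := by
    intro x y hxy
    obtain ⟨c, hc⟩ := Ideal.mem_span_singleton'.mp ((Ideal.Quotient.eq).mp hxy)
    rw [← sub_eq_zero, ← map_sub, ← hc, mul_sub, mul_one, map_sub, mul_comm c f, psiA_self_mul 𝒜 hd hf, sub_self]
  suffices ∀ b : A, ∃ m : A, eA 𝒜 (f := f) (d := d) n b = qm f m ∧ psiA 𝒜 hf n b = psiA 𝒜 hf n m by
    obtain ⟨m', h1, h2⟩ := this a
    rw [h2]
    exact hlift _ _ (h1.symm.trans h)
  intro b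
  induction b using DirectSum.Decomposition.inductionOn 𝒜 with
  | zero => exact ⟨0, by simp, rfl⟩
  | add x y hx hy =>
    obtain ⟨p, hp, hp'⟩ := hx
    obtain ⟨q, hq, hq'⟩ := hy
    exact ⟨p + q, by rw [map_add, map_add, hp, hq], by rw [map_add, map_add, hp', hq']⟩
  | @homogeneous i x =>
    by_cases hg : Good d n i
    · exact ⟨x, eA_good 𝒜 n x.2 hg, rfl⟩
    · exact ⟨0, by rw [eA_bad 𝒜 n x.2 hg, map_zero], by rw [psiA_bad 𝒜 hd hf n x.2 hg, map_zero]⟩

theorem lift_kills {M : Type*} [AddCommGroup M] (φ : A →+ M) (h : ∀ a, φ (f * a) = φ a) :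
    (Ideal.span ({f - 1} : Set A)).toAddSubgroup ≤ φ.ker := fun x hx => by
  obtain ⟨c, rfl⟩ := Ideal.mem_span_singleton'.mp hx
  rw [AddMonoidHom.mem_ker, mul_sub, mul_one, map_sub, mul_comm c f, h, sub_self]

include hd in
theorem mul_homog {k0 : ℕ} {g : A} (hg : g ∈ 𝒜 (k0 • d)) (a : A) :
    eA 𝒜 (f := f) (d := d) n (g * a) = qm f g * eA 𝒜 (f := f) (d := d) n a ∧
    psiA 𝒜 hf n (g * a) = Proj.awayToSection 𝒜 f (Away.mk 𝒜 hf k0 g hg) • psiA 𝒜 hf n a := by
  induction a using DirectSum.Decomposition.inductionOn 𝒜 with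
  | zero => simp
  | add a b ha hb =>
    exact ⟨by rw [mul_add, map_add, map_add, ha.1, hb.1, mul_add], by rw [mul_add, map_add, map_add, ha.2, hb.2, smul_add]⟩
  | @homogeneous i a =>
    have hm : g * (a : A) ∈ 𝒜 (k0 • d + i) := SetLike.mul_mem_graded hg a.2
    by_cases hgd : Good d n i
    · refine ⟨by rw [eA_good 𝒜 n a.2 hgd, eA_good 𝒜 n hm ((good_add_iff hd n i k0).mpr hgd), map_mul], ?_⟩
      have hg' := (good_add_iff hd n i k0).mpr hgd
      rw [psiA_of_mem 𝒜 hf n a.2, psiA_of_mem 𝒜 hf n hm, psiHom, psiHom, dif_pos hgd, dif_pos hg']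
      have hk : hg'.choose = k0 + hgd.choose := by
        have h1 := hgd.choose_spec
        have h2 := hg'.choose_spec
        generalize hg'.choose = K at h2 ⊢
        rw [smul_eq_mul] at h2
        simp only [Nat.cast_add, Nat.cast_mul, Nat.cast_one, one_mul] at h2
        have : (K : ℤ) * d = ((k0 + hgd.choose : ℕ) : ℤ) * d := by simp only [Nat.cast_add, Nat.cast_mul, Nat.cast_one]; linarith
        exact_mod_cast mul_right_cancel₀ (by exact_mod_cast hd.ne') this
      refine GrTwistLib.sec_ext fun x => ?_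
      refine Eq.trans ?_ (GrTwistLib.val_smul _ _ x).symm
      rw [GrModLib6.val_awayToSection hf hg x]
      change Localization.mk _ _ = Localization.mk _ _ * Localization.mk _ _
      rw [Localization.mk_mul]
      refine Localization.mk_eq_mk_iff.mpr (Localization.r_iff_exists.mpr ⟨1, ?_⟩)
      simp only [OneMemClass.coe_one, one_mul, Submonoid.coe_mul, hk, pow_add]
      ring
    · have hbad : ¬ Good d n (k0 • d + i) := fun h => hgd ((good_add_iff hd n i k0).mp h)
      exact ⟨by rw [eA_bad 𝒜 n a.2 hgd, eA_bad 𝒜 n hm hbad, mul_zero],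
        by rw [psiA_bad 𝒜 hd hf n a.2 hgd, psiA_bad 𝒜 hd hf n hm hbad, smul_zero]⟩

end Twist

variable {R : Type u} [CommRing R]

include 𝒜 in
/-- Sections of `O(n)` on a chart form a module of finite presentation. -/
theorem finitePresentation_twist {d : ℕ} (hd : 0 < d) {f : A} (hf : f ∈ 𝒜 d) (n : ℤ)
    (S : Type u) [CommRing S] (φ : S →+* Away 𝒜 f)
    [Algebra S (DQ f)] (hS : algebraMap S (DQ f) = (toQ 𝒜 f).comp φ) [Module.Finite S (DQ f)]
    [Module.FinitePresentation S (DQ f)]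
    [Module S Γ(GrTwist.twist 𝒜 n, Proj.basicOpen 𝒜 f)]
    (hsmul : ∀ (s : S) (t : Γ(GrTwist.twist 𝒜 n, Proj.basicOpen 𝒜 f)),
      s • t = Proj.awayToSection 𝒜 f (φ s) • t) :
    Module.FinitePresentation S Γ(GrTwist.twist 𝒜 n, Proj.basicOpen 𝒜 f) := by
  let I := (Ideal.span ({f - 1} : Set A)).toAddSubgroup
  let e0 : DQ f →+ DQ f :=
    QuotientAddGroup.lift I (eA 𝒜 (f := f) (d := d) n) (lift_kills _ (eA_self_mul 𝒜 hd hf n))
  let p0 : DQ f →+ Γ(GrTwist.twist 𝒜 n, Proj.basicOpen 𝒜 f) :=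
    QuotientAddGroup.lift I (psiA 𝒜 hf n) (lift_kills _ (psiA_self_mul 𝒜 hd hf n))
  have he0 : ∀ a, e0 (qm f a) = eA 𝒜 (f := f) (d := d) n a := fun a => rfl
  have hp0 : ∀ a, p0 (qm f a) = psiA 𝒜 hf n a := fun a => rfl
  let e : DQ f →ₗ[S] DQ f :=
    { toFun := e0, map_add' := map_add e0
      map_smul' := fun s q => by
        obtain ⟨a, rfl⟩ := Ideal.Quotient.mk_surjective q
        obtain ⟨k0, g, hg, hs⟩ := Away.mk_surjective 𝒜 hf (φ s)
        rw [RingHom.id_apply, Algebra.smul_def, Algebra.smul_def, hS, RingHom.comp_apply, ← hs, toQ_mk,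
          ← map_mul, he0, he0]
        exact (mul_homog 𝒜 hd hf n hg a).1 }
  let p : DQ f →ₗ[S] Γ(GrTwist.twist 𝒜 n, Proj.basicOpen 𝒜 f) :=
    { toFun := p0, map_add' := map_add p0
      map_smul' := fun s q => by
        obtain ⟨a, rfl⟩ := Ideal.Quotient.mk_surjective q
        obtain ⟨k0, g, hg, hs⟩ := Away.mk_surjective 𝒜 hf (φ s)
        rw [RingHom.id_apply, Algebra.smul_def, hS, RingHom.comp_apply, hsmul, ← hs, toQ_mk,
          ← map_mul, hp0, hp0]
        exact (mul_homog 𝒜 hd hf n hg a).2 }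
  have hpe : ∀ q, p (e q) = p q := fun q => by
    obtain ⟨a, rfl⟩ := Ideal.Quotient.mk_surjective q
    obtain ⟨k, i, m, hm, hi, ha⟩ := exists_frac_eA 𝒜 hd hf n a
    change p0 (e0 (qm f a)) = p0 (qm f a)
    rw [he0, ha, hp0, hp0, psiA_eA 𝒜 hd hf n a m ha]
  have hker : ∀ q, p q = 0 → e q = 0 := fun q hq => by
    obtain ⟨a, rfl⟩ := Ideal.Quotient.mk_surjective q
    obtain ⟨k, i, m, hm, hi, ha⟩ := exists_frac_eA 𝒜 hd hf n a
    change e0 (qm f a) = 0
    have h0 : psiA 𝒜 hf n m = 0 := by rw [← psiA_eA 𝒜 hd hf n a m ha]; exact hq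
    rw [psiA_frac 𝒜 hd hf n hm hi] at h0
    obtain ⟨K, hK⟩ := GrModLib6.exists_pow_smul_eq_zero 𝒜 𝒜 hd hf hm fun x hx =>
      ⟨⟨f ^ k, GrModLib6.pow_nin ⟨x, hx⟩ _⟩, congrArg (fun z => GrTwistLib.val z ⟨x, hx⟩) h0⟩
    rw [he0, ha, ← qm_pow_mul f K m, ← smul_eq_mul, hK, map_zero]
  have hkr : LinearMap.ker p = LinearMap.range (LinearMap.id - e) := by
    ext q
    constructor
    · intro hq
      exact ⟨q, by rw [LinearMap.sub_apply, hker q hq, sub_zero]; rfl⟩
    · rintro ⟨x, rfl⟩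
      rw [LinearMap.mem_ker, LinearMap.sub_apply, map_sub, hpe]
      exact sub_self _
  refine Module.finitePresentation_of_surjective p (fun t => ?_) ?_
  · obtain ⟨k, i, m, hm, hi, ht⟩ := GrModLib6.exists_eq_frac hd hf (GrModLib6.toTilde t)
    refine ⟨qm f m, GrTwistLib.sec_ext fun x => ?_⟩
    change GrTwistLib.val (psiA 𝒜 hf n m) x = _
    rw [psiA_frac 𝒜 hd hf n hm hi]
    exact (ht x).symm
  · rw [hkr]
    exact Submodule.fg_range _

section FP

variable [Algebra R A] [Algebra.FinitePresentation R A] (ρ : R →+* 𝒜 0) (hρ : ∀ r, algebraMap R A r = (ρ r : A))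

include hρ in
theorem toQ_comp {d : ℕ} {f : A} (hf : f ∈ 𝒜 d) :
    (toQ 𝒜 f).comp ((fromZeroRingHom 𝒜 (Submonoid.powers f)).comp ρ) = algebraMap R (DQ f) := by
  refine RingHom.ext fun r => ?_
  have h1 : fromZeroRingHom 𝒜 (Submonoid.powers f) (ρ r) =
      Away.mk 𝒜 hf 0 (ρ r : A) (by rw [zero_smul]; exact (ρ r).2) :=
    val_injective _ (by
      rw [Away.val_mk]
      change Localization.mk (ρ r : A) 1 = _
      congr 1
      exact Subtype.ext (pow_zero f).symm)
  rw [RingHom.comp_apply, RingHom.comp_apply, h1, toQ_mk, ← hρ]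
  rfl

include hρ in
theorem finiteType_away {d : ℕ} {f : A} (hf : f ∈ 𝒜 d) :
    ((fromZeroRingHom 𝒜 (Submonoid.powers f)).comp ρ).FiniteType := by
  have h0 : ((SetLike.GradeZero.subring 𝒜).subtype.comp ρ).FiniteType := by
    rw [show (SetLike.GradeZero.subring 𝒜).subtype.comp ρ = algebraMap R A from RingHom.ext fun r => (hρ r).symm]
    exact RingHom.finiteType_algebraMap.mpr inferInstance
  haveI : Algebra.FiniteType (𝒜 0) A :=
    RingHom.finiteType_algebraMap.mp (RingHom.FiniteType.of_comp_finiteType h0)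
  have hC : Algebra.FiniteType (𝒜 0) (Away 𝒜 f) := Away.finiteType f d hf
  exact RingHom.FiniteType.comp (g := fromZeroRingHom 𝒜 (Submonoid.powers f))
    (RingHom.finiteType_algebraMap.mpr hC) (MiscFlat6.finiteType_zero 𝒜 ρ h0)

include hρ in
theorem finite_toQ {d : ℕ} (hd : 0 < d) {f : A} (hf : f ∈ 𝒜 d) :
    (toQ 𝒜 f).FiniteType ∧ (toQ 𝒜 f).Finite := by
  have hft : (toQ 𝒜 f).FiniteType := by
    refine RingHom.FiniteType.of_comp_finiteType (f := (fromZeroRingHom 𝒜 (Submonoid.powers f)).comp ρ) ?_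
    rw [toQ_comp 𝒜 ρ hρ hf]
    exact RingHom.finiteType_algebraMap.mpr inferInstance
  refine ⟨hft, ?_⟩
  letI := (toQ 𝒜 f).toAlgebra
  haveI : Algebra.IsIntegral (Away 𝒜 f) (DQ f) := isIntegral_toQ 𝒜 hd hf
  haveI : Algebra.FiniteType (Away 𝒜 f) (DQ f) := hft
  exact (Algebra.IsIntegral.finite : Module.Finite (Away 𝒜 f) (DQ f))

include hρ in
/-- The chart rings of Proj of a finitely presented graded algebra are finitely presented. -/
theorem finitePresentation_away {d : ℕ} (hd : 0 < d) {f : A} (hf : f ∈ 𝒜 d) :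
    ((fromZeroRingHom 𝒜 (Submonoid.powers f)).comp ρ).FinitePresentation := by
  have hft := finiteType_away 𝒜 ρ hρ hf
  letI : Algebra R (Away 𝒜 f) := ((fromZeroRingHom 𝒜 (Submonoid.powers f)).comp ρ).toAlgebra
  haveI : Algebra.FiniteType R (Away 𝒜 f) := hft
  haveI : Algebra.FinitePresentation R (DQ f) :=
    Algebra.FinitePresentation.quotient (Submodule.fg_span_singleton _)
  obtain ⟨N, π, hπ⟩ := Algebra.FiniteType.iff_quotient_mvPolynomial''.mp ‹Algebra.FiniteType R (Away 𝒜 f)›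
  let S := MvPolynomial (Fin N) R
  let φ : S →+* Away 𝒜 f := π.toRingHom
  letI : Algebra S (DQ f) := ((toQ 𝒜 f).comp φ).toAlgebra
  haveI : IsScalarTower R S (DQ f) := IsScalarTower.of_algebraMap_eq' (by
    rw [← toQ_comp 𝒜 ρ hρ hf, RingHom.algebraMap_toAlgebra, RingHom.comp_assoc]
    congr 1
    exact (π.comp_algebraMap).symm)
  haveI : Algebra.FinitePresentation S (DQ f) :=
    Algebra.FinitePresentation.of_restrict_scalars_finitePresentation R S (DQ f)
  haveI : Module.Finite S (DQ f) :=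
    RingHom.finite_algebraMap.mp ((finite_toQ 𝒜 ρ hρ hd hf).2.comp (RingHom.Finite.of_surjective φ hπ))
  haveI : Module.FinitePresentation S (DQ f) := .of_finite_of_finitePresentation S (DQ f)
  letI : Module S Γ(GrTwist.twist 𝒜 0, Proj.basicOpen 𝒜 f) :=
    Module.compHom _ ((Proj.awayToSection 𝒜 f).hom.comp φ)
  have hFP : Module.FinitePresentation S Γ(GrTwist.twist 𝒜 0, Proj.basicOpen 𝒜 f) :=
    finitePresentation_twist 𝒜 hd hf 0 S φ rfl fun s t => rfl
  let t₁ := psiA 𝒜 hf (0 : ℤ) 1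
  let L : S →ₗ[S] Γ(GrTwist.twist 𝒜 0, Proj.basicOpen 𝒜 f) := LinearMap.toSpanSingleton S _ t₁
  have hval : ∀ (k : ℕ) (g : A) (hg : g ∈ 𝒜 (k • d)),
      Proj.awayToSection 𝒜 f (Away.mk 𝒜 hf k g hg) • t₁ = psiA 𝒜 hf (0 : ℤ) g := fun k g hg => by
    rw [← (mul_homog 𝒜 hd hf 0 hg 1).2, mul_one]
  have hsurj : Function.Surjective L := fun t => by
    obtain ⟨k, i, m, hm, hi, ht⟩ := GrModLib6.exists_eq_frac hd hf (GrModLib6.toTilde t)
    obtain rfl : i = k • d := by rw [smul_eq_mul]; omega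
    obtain ⟨s, hs⟩ := hπ (Away.mk 𝒜 hf k m hm)
    refine ⟨s, ?_⟩
    change Proj.awayToSection 𝒜 f (π s) • t₁ = t
    rw [hs, hval k m hm, psiA_frac 𝒜 hd hf 0 hm hi]
    exact GrTwistLib.sec_ext fun x => (ht x).symm
  have hker : (RingHom.ker φ) = LinearMap.ker L := by
    ext s
    constructor
    · intro hs
      change Proj.awayToSection 𝒜 f (φ s) • t₁ = 0
      rw [show φ s = 0 from hs, map_zero, zero_smul]
    · intro hs
      obtain ⟨k, g, hg, he⟩ := Away.mk_surjective 𝒜 hf (φ s)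
      have h0 : psiA 𝒜 hf (0 : ℤ) g = 0 := by rw [← hval k g hg, he]; exact hs
      rw [psiA_frac 𝒜 hd hf 0 (k := k) hg (by rw [smul_eq_mul]; simp)] at h0
      obtain ⟨K, hK⟩ := GrModLib6.exists_pow_smul_eq_zero 𝒜 𝒜 hd hf hg fun x hx =>
        ⟨⟨f ^ k, GrModLib6.pow_nin ⟨x, hx⟩ _⟩, congrArg (fun z => GrTwistLib.val z ⟨x, hx⟩) h0⟩
      rw [RingHom.mem_ker, ← he]
      refine val_injective _ ?_
      rw [Away.val_mk, val_zero, ← Localization.mk_zero (⟨f ^ k, ⟨k, rfl⟩⟩ : Submonoid.powers f)]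
      refine Localization.mk_eq_mk_iff.mpr (Localization.r_iff_exists.mpr ⟨⟨f ^ K, K, rfl⟩, ?_⟩)
      simp only [mul_zero]
      rw [mul_left_comm, ← smul_eq_mul (f ^ K), hK, mul_zero]
  have hfg : (RingHom.ker φ).FG := by
    rw [hker]; exact Module.FinitePresentation.fg_ker L hsurj
  change Algebra.FinitePresentation R (Away 𝒜 f)
  exact Algebra.FinitePresentation.of_surjective (f := π) hπ hfg

include hρ in
/-- Sections of twists on charts of Proj of a finitely presented graded algebra are finitely presented. -/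
theorem finitePresentation_twist_away {d : ℕ} (hd : 0 < d) {f : A} (hf : f ∈ 𝒜 d) (n : ℤ)
    [Module (Away 𝒜 f) Γ(GrTwist.twist 𝒜 n, Proj.basicOpen 𝒜 f)]
    (hsmul : ∀ (c : Away 𝒜 f) (t : Γ(GrTwist.twist 𝒜 n, Proj.basicOpen 𝒜 f)),
      c • t = Proj.awayToSection 𝒜 f c • t) :
    Module.FinitePresentation (Away 𝒜 f) Γ(GrTwist.twist 𝒜 n, Proj.basicOpen 𝒜 f) := by
  letI : Algebra R (Away 𝒜 f) := ((fromZeroRingHom 𝒜 (Submonoid.powers f)).comp ρ).toAlgebra
  haveI : Algebra.FinitePresentation R (DQ f) :=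
    Algebra.FinitePresentation.quotient (Submodule.fg_span_singleton _)
  haveI : Algebra.FinitePresentation R (Away 𝒜 f) := finitePresentation_away 𝒜 ρ hρ hd hf
  letI : Algebra (Away 𝒜 f) (DQ f) := (toQ 𝒜 f).toAlgebra
  haveI : IsScalarTower R (Away 𝒜 f) (DQ f) := IsScalarTower.of_algebraMap_eq' (toQ_comp 𝒜 ρ hρ hf).symm
  haveI : Algebra.FinitePresentation (Away 𝒜 f) (DQ f) :=
    Algebra.FinitePresentation.of_restrict_scalars_finitePresentation R (Away 𝒜 f) (DQ f)
  haveI : Module.Finite (Away 𝒜 f) (DQ f) := (finite_toQ 𝒜 ρ hρ hd hf).2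
  haveI : Module.FinitePresentation (Away 𝒜 f) (DQ f) := .of_finite_of_finitePresentation _ _
  exact finitePresentation_twist 𝒜 hd hf n (Away 𝒜 f) (RingHom.id _) rfl hsmul

end FP

end RelProjFPLib
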