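import Groth.Agent.RelProjFPLib.Algebra
import Groth.Agent.RichLib.IsFPAffine
import Mathlib.AlgebraicGeometry.Morphisms.FinitePresentation

/-! A relative Proj of a finitely presented graded algebra is of finite presentation. -/

set_option autoImplicit false
set_option maxHeartbeats 1000000
universe u
open CategoryTheory AlgebraicGeometry TopologicalSpace Opposite HomogeneousLocalization
open scoped HomogeneousIdeal

noncomputable section

namespace RelProjFPLib

variable {S P : Scheme.{u}} {𝒮 : RelProj.QCGrAlg S} {p : P ⟶ S}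
  {chart : ∀ (U : S.Opens) (hU : IsAffineOpen U), (((p ⁻¹ᵁ U : P.Opens) : Scheme.{u}) ≅ Proj (𝒮.deg U hU))}
  (hfp : ∀ (U : S.Opens), IsAffineOpen U → RingHom.FinitePresentation (𝒮.str.app (op U)).hom)

include hfp in
theorem relProj_lfp (hP : RelProj.IsRelProj 𝒮 p chart) :
    LocallyOfFinitePresentation p ∧ QuasiCompact p ∧ QuasiSeparated p := by
  haveI := MiscFlat6.relProj_isSeparated hP
  refine ⟨?_, (MiscFlat6.relProj_finiteType hP
    fun U hU => RingHom.FiniteType.of_finitePresentation (hfp U hU)).2, inferInstance⟩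
  refine MiscFlat6.relProj_of_local hP @LocallyOfFinitePresentation fun U hU => ?_
  letI := (𝒮.str.app (op U)).hom.toAlgebra
  haveI : Algebra.FinitePresentation Γ(S, U) (𝒮.presheaf.obj (op U)) := hfp U hU
  let I := Σ d : {d : ℕ // 0 < d}, 𝒮.deg U hU d.1
  let 𝒰 := Proj.affineOpenCoverOfIrrelevantLESpan (𝒮.deg U hU) (fun t : I => (t.2 : 𝒮.presheaf.obj (op U)))
    (fun t => t.2.2) (fun t => t.1.2) (by
      rw [HomogeneousIdeal.toIdeal_irrelevant_le]
      exact fun i hi x hx => Ideal.subset_span ⟨⟨⟨i, hi⟩, ⟨x, hx⟩⟩, rfl⟩)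
  refine (IsZariskiLocalAtSource.iff_of_openCover (P := @LocallyOfFinitePresentation) 𝒰.openCover).mpr fun t => ?_
  change LocallyOfFinitePresentation (Proj.awayι (𝒮.deg U hU) _ t.2.2 t.1.2 ≫ _)
  rw [Proj.awayι_toSpecZero_assoc, ← Spec.map_comp]
  exact (HasRingHomProperty.Spec_iff (P := @LocallyOfFinitePresentation)).mpr
    (finitePresentation_away (𝒮.deg U hU) (𝒮.strZero U hU).hom (fun r => rfl) t.1.2 t.2.2)

include hfp in
theorem relTwist_isFP (n : ℤ) {L : P.Modules}
    {lam : ∀ (U : S.Opens) (hU : IsAffineOpen U),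
      L ⟶ (Scheme.Modules.pushforward (RelProj.emb p chart U hU)).obj (GrTwist.twist (𝒮.deg U hU) n)}
    (hL : RelProj.IsRelTwist 𝒮 p chart n L lam) : CohB1.IsFP L := by
  haveI := GrModLib6.isQCoh_relTwist hL
  refine RichLib.IsFPAffine.isFP_of_finitePresentation L fun x => ?_
  obtain ⟨_, ⟨U, hU, rfl⟩, hxU, -⟩ :=
    S.isBasis_affineOpens.exists_subset_of_mem_open (Set.mem_univ (p x)) isOpen_univ
  obtain ⟨x', hx'⟩ : ∃ x', RelProj.emb p chart U hU x' = x :=
    ⟨(chart U hU).hom ⟨x, hxU⟩, by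
      rw [RelProj.emb, Scheme.Hom.comp_apply, ← Scheme.Hom.comp_apply (chart U hU).hom (chart U hU).inv,
        Iso.hom_inv_id]
      rfl⟩
  obtain ⟨d, f, hd, hf, hfx⟩ := GrModLib6.exists_pos_not_mem (𝒮.deg U hU) x'
  set ι := RelProj.emb p chart U hU
  let D := Proj.basicOpen (𝒮.deg U hU) f
  have hD : IsAffineOpen D := Proj.isAffineOpen_basicOpen (𝒮.deg U hU) f hf hd
  let V := ι ''ᵁ D
  have hVU : V ≤ p ⁻¹ᵁ U := by
    rintro _ ⟨y, -, rfl⟩
    exact ((chart U hU).inv y).2
  refine ⟨V, hD.image_of_isOpenImmersion ι, ⟨x', hfx, hx'⟩, ?_⟩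
  letI := (𝒮.str.app (op U)).hom.toAlgebra
  haveI : Algebra.FinitePresentation Γ(S, U) (𝒮.presheaf.obj (op U)) := hfp U hU
  let N := GrTwist.twist (𝒮.deg U hU) n
  let a := Proj.basicOpenIsoAway (𝒮.deg U hU) f hf hd
  have ha : ∀ c, a.hom c = Proj.awayToSection (𝒮.deg U hU) f c := fun c => rfl
  letI : Module (Away (𝒮.deg U hU) f) Γ(N, D) := Module.compHom _ (Proj.awayToSection (𝒮.deg U hU) f).hom
  haveI : Module.FinitePresentation (Away (𝒮.deg U hU) f) Γ(N, D) :=
    finitePresentation_twist_away (𝒮.deg U hU) (𝒮.strZero U hU).hom (fun r => rfl) hd hf n fun c t => rfl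
  have hDV : D ≤ ι ⁻¹ᵁ V := (Scheme.Hom.preimage_image_eq ι D).ge
  let ψ : Γ(P, V) →+* Γ(Proj (𝒮.deg U hU), D) := (ι.appLE V D hDV).hom
  let e : Γ(L, V) →+ Γ(N, D) :=
    { toFun := fun m => N.presheaf.map (homOfLE hDV).op ((lam U hU).app V m)
      map_zero' := ((congrArg (N.presheaf.map (homOfLE hDV).op).hom (map_zero ((lam U hU).app V).hom)).trans
        (map_zero (N.presheaf.map (homOfLE hDV).op).hom))
      map_add' := fun a b => by rw [map_add]; exact map_add (N.presheaf.map (homOfLE hDV).op).hom _ _ }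
  have he : Function.Bijective e := by
    have h1 : Function.Bijective (N.presheaf.map (homOfLE hDV).op) := by
      haveI : IsIso (homOfLE hDV).op := by
        rw [show homOfLE hDV = eqToHom (Scheme.Hom.preimage_image_eq ι D).symm from Subsingleton.elim _ _]
        infer_instance
      exact ConcreteCategory.bijective_of_isIso _
    exact h1.comp (hL.bijective U hU V hVU)
  have hes : ∀ r m, e (r • m) = ψ r • e m := fun r m => by
    change N.presheaf.map (homOfLE hDV).op ((lam U hU).app V (r • m)) = _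
    rw [QCohLib.app_smul]
    exact QCohLib.map_smul' N (homOfLE hDV) (ι.app V r) _
  have hψ : Function.Bijective ψ := by
    haveI : IsIso (ι.appLE V D hDV) := by
      rw [← Scheme.Hom.appIso_hom']
      infer_instance
    exact ConcreteCategory.bijective_of_isIso (ι.appLE V D hDV)
  haveI : Module.FinitePresentation Γ(Proj (𝒮.deg U hU), D) Γ(N, D) :=
    FlatLib.finitePresentation_semilinear (M := Γ(N, D)) (N := Γ(N, D))
      a.hom.hom a.commRingCatIsoToRingEquiv.surjective (AddEquiv.refl _) fun c t => rfl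
  let ψe := RingEquiv.ofBijective ψ hψ
  let ee := AddEquiv.ofBijective e he
  refine FlatLib.finitePresentation_semilinear (M := Γ(N, D)) (N := Γ(L, V))
    ψe.symm.toRingHom ψe.symm.surjective ee.symm fun r t => ?_
  refine ee.injective ?_
  change ee (ee.symm (r • t)) = e (ψe.symm r • ee.symm t)
  rw [ee.apply_symm_apply, hes]
  change r • t = ψe (ψe.symm r) • ee (ee.symm t)
  rw [ψe.apply_symm_apply, ee.apply_symm_apply]

end RelProjFPLib
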